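import Groth.Agent.DCohShriek.ExtFinite
import Groth.Agent.DCohShriek.HomFinite
import Groth.Agent.DualSch.SelfDual
import Groth.Agent.DualCx.GorLocus
import Groth.Agent.Shriek.RelDual
import Groth.Agent.WContr.DCDerived

/-!
Rigid objects on an affine scheme.
-/

set_option autoImplicit false
set_option backward.isDefEq.respectTransparency false
set_option backward.isDefEq.respectTransparency.types false
set_option linter.style.haveILetI false
set_option linter.unusedSectionVars false

universe t v w v' w' u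

open CategoryTheory Limits AlgebraicGeometry HomologicalComplex

attribute [local instance] HasDerivedCategory.standard

namespace Groth.Agent.RigidD

section General

variable {R : Type t} [CommRing R] {D : Type w} [Category.{v} D] [Preadditive D] [Linear R D]
  {D' : Type w'} [Category.{v'} D'] [Preadditive D'] [Linear R D']

lemma bijective_smul_of_iso {Z Z' : D} (e : Z ≅ Z') (h : Function.Bijective fun a : R => a • 𝟙 Z) :
    Function.Bijective fun a : R => a • 𝟙 Z' := by
  have : (fun a : R => a • 𝟙 Z') = (e.homCongr e) ∘ (fun a : R => a • 𝟙 Z) := funext fun a => by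
    simp [Iso.homCongr, Linear.smul_comp, Linear.comp_smul]
  rw [this]
  exact (e.homCongr e).bijective.comp h

lemma bijective_smul_map (F : D ⥤ D') [F.Additive] [F.Linear R] [F.Full] [F.Faithful] {Z : D}
    (h : Function.Bijective fun a : R => a • 𝟙 Z) : Function.Bijective fun a : R => a • 𝟙 (F.obj Z) := by
  have : (fun a : R => a • 𝟙 (F.obj Z)) = F.map (X := Z) (Y := Z) ∘ (fun a : R => a • 𝟙 Z) :=
    funext fun a => by simp [Functor.map_smul]
  rw [this]
  exact ((Functor.FullyFaithful.ofFullyFaithful F).map_bijective Z Z).comp h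

/-- bijectivity on maps is invariant under isomorphisms of source and target -/
lemma bijective_map_of_iso {C : Type w} [Category.{v} C] {C' : Type w'} [Category.{v'} C'] (F : C ⥤ C') {P P' Q Q' : C}
    (e : P ≅ P') (e' : Q ≅ Q') (h : Function.Bijective (F.map : (P ⟶ Q) → _)) :
    Function.Bijective (F.map : (P' ⟶ Q') → _) := by
  have : (F.map : (P' ⟶ Q') → _) = (F.mapIso e).homCongr (F.mapIso e') ∘ F.map ∘ (e.homCongr e').symm :=
    funext fun g => by simp [Iso.homCongr]
  rw [this]
  exact ((F.mapIso e).homCongr (F.mapIso e')).bijective.comp (h.comp (e.homCongr e').symm.bijective)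

end General

variable (A : Type u) [CommRing A]

lemma bijective_smul_unit : Function.Bijective fun a : A => a • 𝟙 (Dual.inD A A) := by
  refine bijective_smul_map (DerivedCategory.singleFunctor (ModuleCat.{u} A) 0) ?_
  have : (fun a : A => a • 𝟙 (ModuleCat.of A A)) = ((ModuleCat.homLinearEquiv (S := A)).trans
      (LinearMap.ringLmapEquivSelf A A A)).symm := funext fun a => by
    refine ((ModuleCat.homLinearEquiv (S := A)).trans (LinearMap.ringLmapEquivSelf A A A)).injective ?_
    rw [LinearEquiv.apply_symm_apply]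
    simp [ModuleCat.homLinearEquiv]
    exact mul_one a
  rw [this]
  exact LinearEquiv.bijective _

lemma subsingleton_unit_shift {i : ℤ} (hi : i ≠ 0) :
    Subsingleton (Dual.inD A A ⟶ (Dual.inD A A)⟦i⟧) := by
  obtain ⟨e⟩ := DualCx.nonempty_hd_shift (Dual.inD A A) i 0
  haveI := DualCx.subsingleton_hd_inD A (j := i + 0) (by omega) (A := A)
  have hS : Subsingleton (Dual.HD A ((Dual.inD A A)⟦i⟧) 0) := e.toEquiv.subsingleton
  haveI : Subsingleton (ModuleCat.of A A ⟶
      (DerivedCategory.homologyFunctor (ModuleCat.{u} A) 0).obj ((Dual.inD A A)⟦i⟧)) :=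
    ⟨fun f g => ModuleCat.hom_ext (LinearMap.ext fun x =>
      hS.elim _ _)⟩
  exact (WContr.DC.evEquiv (R := A) (ModuleCat.of A A) ((Dual.inD A A)⟦i⟧)).toEquiv.subsingleton

variable {A}

/-- maps from a shift -/
lemma subsingleton_of_shift {T : Type w} [Category.{v} T] [HasShift T ℤ] {Z : T} {i : ℤ}
    (h : Subsingleton (Z ⟶ Z⟦-i⟧)) : Subsingleton (Z⟦i⟧ ⟶ Z) :=
  haveI : Subsingleton ((𝟭 T).obj Z ⟶ (shiftFunctor T (-i)).obj Z) := h
  (((Functor.FullyFaithful.ofFullyFaithful (shiftFunctor T (-i))).homEquiv (X := Z⟦i⟧) (Y := Z)).trans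
    (((shiftFunctorCompIsoId T i (-i) (by omega)).app Z).homCongr (Iso.refl _))).subsingleton

local notation "SA" => Spec (CommRingCat.of A)
local notation "OA" => DCoh.inD (Spec (CommRingCat.of A)) (Coh.structureModule (Spec (CommRingCat.of A)))

/-- `O[m] ⊗^L K = K[m]` -/
theorem nonempty_ltensor_unit_shift {X : Scheme.{u}} {K : CochainComplex X.Modules ℤ} (hK : DCoh.IsKFlat K)
    [DCoh.HasLTensorCx K] (m : ℤ) :
    Nonempty ((DCoh.LTensorCx K).obj ((DCoh.inD X (Coh.structureModule X))⟦m⟧) ≅ (DCoh.toD X K)⟦m⟧) := by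
  obtain ⟨eu⟩ := PerfHom.nonempty_unit_ltensor hK
  let O₁ : CochainComplex X.Modules ℤ := (single X.Modules (ComplexShape.up ℤ) 0).obj (Coh.structureModule X)
  let e₀ : DerivedCategory.Q.obj O₁ ≅ DCoh.inD X (Coh.structureModule X) :=
    ((DerivedCategory.singleFunctorIsoCompQ _ 0).app _).symm
  exact ⟨(DCoh.LTensorCx K).mapIso ((shiftFunctor _ m).mapIso e₀.symm ≪≫
      ((DerivedCategory.Q.commShiftIso m).app O₁).symm) ≪≫
    KFlat.ltIsoOfKFlat hK _ ≪≫
    DerivedCategory.Q.mapIso (CochainComplex.mapBifunctorShift₁Iso O₁ K (DCoh.tensorBi (X := X)) m) ≪≫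
    (DerivedCategory.Q.commShiftIso m).app _ ≪≫
    (shiftFunctor _ m).mapIso ((KFlat.ltIsoOfKFlat hK O₁).symm ≪≫ (DCoh.LTensorCx K).mapIso e₀ ≪≫ eu)⟩

/-- on an affine scheme `- ⊗^L M~` is bijective on maps between shifts of `O` for rigid `M` -/
theorem bijective_ltensor_spec {K : CochainComplex (Spec (CommRingCat.of A)).Modules ℤ} (hK : DCoh.IsKFlat K)
    [DCoh.HasLTensorCx K] (M : Dual.D A)
    (e : DCoh.toD (Spec (CommRingCat.of A)) K ≅ (DCoh.tildeD (CommRingCat.of A)).obj M)
    (h0 : Function.Bijective fun a : A => a • 𝟙 M) (h1 : ∀ i : ℤ, i ≠ 0 → Subsingleton (M ⟶ M⟦i⟧)) (m : ℤ) :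
    Function.Bijective ((DCoh.LTensorCx K).map : (OA⟦m⟧ ⟶ OA) → _) := by
  haveI : PreservesFiniteLimits (tilde.functor (CommRingCat.of A)) := QC.tilde_preservesFiniteLimits
  obtain ⟨hfull, hfaith, -⟩ := DQCoh.tildeD_affine (R := CommRingCat.of A)
  haveI := hfull
  haveI := hfaith
  let T : Dual.D A ⥤ DCoh.D SA := DCoh.tildeD (CommRingCat.of A)
  haveI : T.Linear A := inferInstanceAs ((tilde.functor (CommRingCat.of A)).mapDerivedCategory.Linear A)
  let eO : T.obj (Dual.inD A A) ≅ OA :=
    ((tilde.functor (CommRingCat.of A)).mapDerivedCategorySingleFunctor 0).app (ModuleCat.of A A) ≪≫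
      (DerivedCategory.singleFunctor _ 0).mapIso (tildeSelf (R := CommRingCat.of A))
  obtain ⟨et⟩ := nonempty_ltensor_unit_shift hK m
  obtain ⟨eu⟩ := PerfHom.nonempty_unit_ltensor hK
  by_cases hm : m = 0
  · subst hm
    refine bijective_map_of_iso _ ((shiftFunctorZero _ ℤ).app OA).symm (Iso.refl _) ?_
    have hs := bijective_smul_of_iso eO (bijective_smul_map T (bijective_smul_unit A))
    have ht := bijective_smul_of_iso (e.symm ≪≫ eu.symm) (bijective_smul_map T h0)
    refine (Function.Bijective.of_comp_iff _ hs).1 ?_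
    convert ht using 1
    funext a
    exact DCohShriek.ltensor_map_smul_id hK _ a
  · have hTc : ∀ {Z : Dual.D A}, Subsingleton (Z ⟶ Z⟦-m⟧) → Subsingleton ((T.obj Z)⟦m⟧ ⟶ T.obj Z) := fun {Z} h => by
      haveI := subsingleton_of_shift h
      haveI : Subsingleton (T.obj (Z⟦m⟧) ⟶ T.obj Z) :=
        (Functor.FullyFaithful.ofFullyFaithful T).homEquiv.symm.subsingleton
      haveI : Subsingleton ((shiftFunctor (Dual.D A) m ⋙ T).obj Z ⟶ T.obj Z) :=
        inferInstanceAs (Subsingleton (T.obj (Z⟦m⟧) ⟶ T.obj Z))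
      exact (((T.commShiftIso m).app Z).symm.homCongr (Iso.refl (T.obj Z))).subsingleton
    haveI : Subsingleton (OA⟦m⟧ ⟶ OA) := by
      haveI := hTc (subsingleton_unit_shift A (i := -m) (by omega))
      exact (((shiftFunctor _ m).mapIso eO).homCongr eO).symm.subsingleton
    haveI : Subsingleton ((DCoh.LTensorCx K).obj (OA⟦m⟧) ⟶ (DCoh.LTensorCx K).obj OA) := by
      haveI := hTc (h1 (-m) (by omega))
      exact ((et ≪≫ (shiftFunctor _ m).mapIso e).homCongr (eu ≪≫ e)).subsingleton
    exact ⟨fun _ _ _ => Subsingleton.elim _ _, fun _ => ⟨0, Subsingleton.elim _ _⟩⟩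

end Groth.Agent.RigidD
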