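import Groth.Agent.RigidD.Basic
import Groth.Agent.RigidD.Spec
import Groth.Agent.RHomCx.Local
import Groth.Agent.RHomCx.Exists
import Groth.Agent.DualSch.SelfInv

/-!
`O ⟶ RHom(E, E)` is an isomorphism for locally rigid `E`.
-/

set_option autoImplicit false
set_option backward.isDefEq.respectTransparency false
set_option backward.isDefEq.respectTransparency.types false
set_option linter.style.haveILetI false
set_option linter.unusedSectionVars false
set_option maxHeartbeats 1000000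

universe u

open CategoryTheory Limits AlgebraicGeometry HomologicalComplex

attribute [local instance] HasDerivedCategory.standard

namespace Groth.Agent.RigidD

open Groth.Agent.DQCoh (RD rdComp rdCongr)
open Groth.Agent.PerfGen (rdId)
open Groth.Agent.KFlat

variable {X Z : Scheme.{u}}

/-- a functor natural-isomorphic to one bijective on maps -/
lemma bijective_map_natIso {C : Type*} [Category C] {C' : Type*} [Category C'] {F G : C ⥤ C'} (θ : F ≅ G) {P Q : C}
    (h : Function.Bijective (F.map : (P ⟶ Q) → _)) : Function.Bijective (G.map : (P ⟶ Q) → _) := by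
  have : (G.map : (P ⟶ Q) → _) = (θ.app P).homCongr (θ.app Q) ∘ F.map :=
    funext fun g => by simp [Iso.homCongr]
  rw [this]
  exact ((θ.app P).homCongr (θ.app Q)).bijective.comp h

/-- `- ⊗^L E` commutes with restriction -/
theorem nonempty_restrict_LT (j : Z ⟶ X) [IsOpenImmersion j] {E : CochainComplex X.Modules ℤ} (hE : DCoh.IsKFlat E)
    [DCoh.HasLTensorCx E]
    [DCoh.HasLTensorCx (((Scheme.Modules.pullback j).mapHomologicalComplex (ComplexShape.up ℤ)).obj E)] :
    Nonempty (DCoh.LTensorCx E ⋙ RD j ≅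
      RD j ⋙ DCoh.LTensorCx (((Scheme.Modules.pullback j).mapHomologicalComplex (ComplexShape.up ℤ)).obj E)) := by
  let P := (Scheme.Modules.pullback j).mapHomologicalComplex (ComplexShape.up ℤ)
  let R := (Scheme.Modules.restrictFunctor j).mapHomologicalComplex (ComplexShape.up ℤ)
  let Qx := (DerivedCategory.Q : CochainComplex X.Modules ℤ ⥤ _)
  let Qz := (DerivedCategory.Q : CochainComplex Z.Modules ℤ ⥤ _)
  let iP : R ≅ P := NatIso.mapHomologicalComplex (Scheme.Modules.restrictFunctorIsoPullback j) (ComplexShape.up ℤ)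
  haveI hX : ∀ A, IsIso ((ltCounit E).app A) := fun A => isIso_ltCounit_app_of_kFlat hE A
  haveI hZ : ∀ A, IsIso ((ltCounit (P.obj E)).app A) := fun A =>
    isIso_ltCounit_app_of_kFlat (isKFlat_pullback j hE) A
  let lX : Qx ⋙ DCoh.LTensorCx E ≅ DCoh.tensorCxQ E := NatIso.ofComponents (fun A => asIso ((ltCounit E).app A))
    fun a => (ltCounit E).naturality a
  let lZ : Qz ⋙ DCoh.LTensorCx (P.obj E) ≅ DCoh.tensorCxQ (P.obj E) :=
    NatIso.ofComponents (fun A => asIso ((ltCounit (P.obj E)).app A)) fun a => (ltCounit (P.obj E)).naturality a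
  let fR : Qx ⋙ RD j ≅ R ⋙ Qz := (Scheme.Modules.restrictFunctor j).mapDerivedCategoryFactors
  let pt : P ⋙ RHomCx.FE (P.obj E) ≅ RHomCx.FE E ⋙ P :=
    NatIso.ofComponents (fun A => pullTotIso j A E) fun a => RHomCx.pullTotIso_natural j a E
  refine ⟨Localization.liftNatIso Qx (HomologicalComplex.quasiIso X.Modules (ComplexShape.up ℤ))
    (Qx ⋙ DCoh.LTensorCx E ⋙ RD j) (Qx ⋙ RD j ⋙ DCoh.LTensorCx (P.obj E)) _ _ ?_⟩
  exact (Functor.associator _ _ _).symm ≪≫ Functor.isoWhiskerRight lX _ ≪≫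
    (show DCoh.tensorCxQ E ⋙ RD j ≅ RHomCx.FE E ⋙ Qx ⋙ RD j from Functor.associator _ _ _) ≪≫
    Functor.isoWhiskerLeft _ (fR ≪≫ Functor.isoWhiskerRight iP _) ≪≫ (Functor.associator _ _ _).symm ≪≫
    Functor.isoWhiskerRight pt.symm _ ≪≫ Functor.associator _ _ _ ≪≫
    Functor.isoWhiskerLeft _ (show RHomCx.FE (P.obj E) ⋙ Qz ≅ Qz ⋙ DCoh.LTensorCx (P.obj E) from lZ.symm) ≪≫
    Functor.isoWhiskerRight iP.symm _ ≪≫ (Functor.associator _ _ _).symm ≪≫
    Functor.isoWhiskerRight fR.symm _ ≪≫ Functor.associator _ _ _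

/-- restriction along an isomorphism is an equivalence -/
noncomputable def rdEquiv (k : Z ⟶ X) [IsIso k] : DCoh.D X ≌ DCoh.D Z :=
  CategoryTheory.Equivalence.mk (RD k) (RD (inv k))
    ((rdId _).symm ≪≫ rdCongr (IsIso.inv_hom_id k).symm ≪≫ rdComp (inv k) k)
    ((rdComp k (inv k)).symm ≪≫ rdCongr (IsIso.hom_inv_id k) ≪≫ rdId _)

/-- `E` looks like a rigid object near `x` inside `W` -/
def RigidNear (E : DCoh.D X) (x : X) (W : X.Opens) : Prop :=
  ∃ (A : Type u) (_ : CommRing A) (w : Spec (CommRingCat.of A) ⟶ X) (_ : IsOpenImmersion w) (M : Dual.D A),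
    x ∈ Set.range w ∧ Set.range w ⊆ W ∧ Nonempty ((RD w).obj E ≅ (DCoh.tildeD (CommRingCat.of A)).obj M) ∧
      Function.Bijective (fun a : A => a • 𝟙 M) ∧ ∀ i : ℤ, i ≠ 0 → Subsingleton (M ⟶ M⟦i⟧)

variable {A : Type u} [CommRing A] (w : Spec (CommRingCat.of A) ⟶ X) [IsOpenImmersion w]

lemma hom_ι_eq : w.isoOpensRange.hom ≫ w.opensRange.ι = w := by
  rw [← Iso.inv_hom_id_assoc w.isoOpensRange w.opensRange.ι]
  exact (congrArg (w.isoOpensRange.hom ≫ ·) ((Category.assoc _ _ _).symm.trans (by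
    rw [Iso.inv_hom_id, Category.id_comp]))).trans (by
      rw [← w.isoOpensRange_inv_comp, Iso.hom_inv_id_assoc])

/-- restriction to the chart is bijective on maps out of `j_!` -/
lemma bijective_RD_map (C : DCoh.D (w.opensRange : Scheme.{u})) (M : DCoh.D X) :
    Function.Bijective ((RD w).map : ((eUD w.opensRange).obj C ⟶ M) → _) := by
  refine bijective_map_natIso ((rdComp w.isoOpensRange.hom w.opensRange.ι).symm ≪≫ rdCongr (hom_ι_eq w)) ?_
  exact ((Functor.FullyFaithful.ofFullyFaithful (rdEquiv w.isoOpensRange.hom).functor).map_bijective _ _).comp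
    (bijective_restrict_map w.opensRange C M)

/-- the generator seen in the chart -/
lemma nonempty_RD_gen (m : ℤ) : Nonempty ((RD w).obj (gen w.opensRange m) ≅
    (DCoh.inD (Spec (CommRingCat.of A)) (Coh.structureModule (Spec (CommRingCat.of A))))⟦m⟧) := by
  haveI := isIso_adjD_unit w.opensRange ((DCoh.inD (w.opensRange : Scheme.{u}) (Coh.structureModule _))⟦m⟧)
  obtain ⟨eu⟩ := DualSch.nonempty_restrict_unit (X := (w.opensRange : Scheme.{u})) w.isoOpensRange.hom
  exact ⟨(rdCongr (hom_ι_eq w).symm).app _ ≪≫ (rdComp _ _).app _ ≪≫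
    (RD w.isoOpensRange.hom).mapIso (asIso ((adjD w.opensRange).unit.app _)).symm ≪≫
    ((RD w.isoOpensRange.hom).commShiftIso m).app _ ≪≫ (shiftFunctor _ m).mapIso eu⟩

/-- the key bijection -/
theorem bijective_ltensor_gen {E : CochainComplex X.Modules ℤ} (hE : DCoh.IsKFlat E) [DCoh.HasLTensorCx E]
    (M : Dual.D A) (eM : (RD w).obj (DCoh.toD X E) ≅ (DCoh.tildeD (CommRingCat.of A)).obj M)
    (h0 : Function.Bijective fun a : A => a • 𝟙 M) (h1 : ∀ i : ℤ, i ≠ 0 → Subsingleton (M ⟶ M⟦i⟧)) (m : ℤ) :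
    Function.Bijective
      ((DCoh.LTensorCx E).map : (gen w.opensRange m ⟶ DCoh.inD X (Coh.structureModule X)) → _) := by
  let U := w.opensRange
  haveI := RHomCx.hasRSheafHom E
  haveI : DCoh.HasLTensorCx ((DCoh.restrictCx U).obj E) := KFlat.hasLTensorCx _
  let P := (Scheme.Modules.pullback w).mapHomologicalComplex (ComplexShape.up ℤ)
  haveI : DCoh.HasLTensorCx (P.obj E) := KFlat.hasLTensorCx _
  obtain ⟨θ⟩ := nonempty_restrict_LT w hE
  obtain ⟨Φ⟩ := RHomCx.nonempty_extZero_LTensorCx U E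
  obtain ⟨eg⟩ := nonempty_RD_gen w m
  obtain ⟨eO⟩ := DualSch.nonempty_restrict_unit w
  let eP : DCoh.toD (Spec (CommRingCat.of A)) (P.obj E) ≅ (DCoh.tildeD (CommRingCat.of A)).obj M :=
    DerivedCategory.Q.mapIso ((NatIso.mapHomologicalComplex (Scheme.Modules.restrictFunctorIsoPullback w)
      (ComplexShape.up ℤ)).app E).symm ≪≫
    ((Scheme.Modules.restrictFunctor w).mapDerivedCategoryFactors.app E).symm ≪≫ eM
  have h3 := bijective_map_of_iso (DCoh.LTensorCx (P.obj E)) eg.symm eO.symm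
    (bijective_ltensor_spec (isKFlat_pullback w hE) M eP h0 h1 m)
  have h4 : Function.Bijective ((RD w).map :
      ((DCoh.LTensorCx E).obj (gen U m) ⟶ (DCoh.LTensorCx E).obj (DCoh.inD X (Coh.structureModule X))) → _) :=
    bijective_map_of_iso (RD w) (Φ.app _).symm (Iso.refl _) (bijective_RD_map w _ _)
  have h5 : Function.Bijective ((DCoh.LTensorCx E ⋙ RD w).map :
      (gen U m ⟶ DCoh.inD X (Coh.structureModule X)) → _) :=
    bijective_map_natIso θ.symm (h3.comp (bijective_RD_map w _ _))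
  exact (Function.Bijective.of_comp_iff' h4 _).1 h5

/-- **`O ≅ RHom(E, E)` for locally rigid `E`** -/
theorem isIso_homEquiv (E : CochainComplex X.Modules ℤ) [DCoh.HasLTensorCx E] [DCoh.HasRSheafHom E]
    (υ : (DCoh.LTensorCx E).obj (DCoh.inD X (Coh.structureModule X)) ≅ DCoh.toD X E)
    (h : ∀ (x : X) (W : X.Opens), x ∈ W → RigidNear (DCoh.toD X E) x W) :
    IsIso (((DCoh.RSheafHomAdj E).homEquiv (DCoh.inD X (Coh.structureModule X)) (DCoh.toD X E)) υ.hom) := by
  let O := DCoh.inD X (Coh.structureModule X)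
  let B : Set X.Opens := {V | ∃ (A : Type u) (_ : CommRing A) (w : Spec (CommRingCat.of A) ⟶ X)
    (_ : IsOpenImmersion w) (M : Dual.D A), V = w.opensRange ∧
      Nonempty ((RD w).obj (DCoh.toD X E) ≅ (DCoh.tildeD (CommRingCat.of A)).obj M) ∧
      Function.Bijective (fun a : A => a • 𝟙 M) ∧ ∀ i : ℤ, i ≠ 0 → Subsingleton (M ⟶ M⟦i⟧)}
  have hB : Conormal.IsBasisFam B := fun W x hx => by
    obtain ⟨A, _, w, _, M, hxw, hW, r⟩ := h x W hx
    exact ⟨w.opensRange, ⟨A, _, w, ‹_›, M, rfl, r⟩, hW, hxw⟩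
  refine isIso_of_bijective B hB _ ?_
  rintro U ⟨A, _, w, _, M, rfl, ⟨eM⟩, h0, h1⟩ m
  let E₀ := (resF X).obj E
  let q : E₀ ⟶ E := (resψ X).app E
  haveI := hasLTensorCx E₀
  obtain ⟨Φ₀⟩ := RHomCx.nonempty_LTensorCx_iso (K := E₀) (L := E) q
  have hb := bijective_map_natIso Φ₀ (bijective_ltensor_gen w (isKFlat_resF E) M
    ((RD w).mapIso (asIso (DerivedCategory.Q.map q)) ≪≫ eM) h0 h1 m)
  have : (fun g : gen w.opensRange m ⟶ O => g ≫ ((DCoh.RSheafHomAdj E).homEquiv O (DCoh.toD X E)) υ.hom) =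
      (DCoh.RSheafHomAdj E).homEquiv _ _ ∘ (Iso.refl _).homCongr υ ∘ (DCoh.LTensorCx E).map :=
    funext fun g => by
      simp only [Function.comp_apply, Iso.homCongr_apply, Iso.refl_inv, Category.id_comp]
      exact ((DCoh.RSheafHomAdj E).homEquiv_naturality_left g υ.hom).symm
  exact this ▸ ((DCoh.RSheafHomAdj E).homEquiv _ _).bijective.comp (((Iso.refl _).homCongr υ).bijective.comp hb)

end Groth.Agent.RigidD
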