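import Groth.Agent.RigidD.Basic

/-!
Vanishing of one cohomology sheaf by maps from the `j_! O_U[-n]`.
-/

set_option autoImplicit false
set_option backward.isDefEq.respectTransparency false
set_option backward.isDefEq.respectTransparency.types false
set_option linter.style.haveILetI false
set_option linter.unusedSectionVars false
set_option maxHeartbeats 1000000

universe u

open CategoryTheory Limits AlgebraicGeometry HomologicalComplex

attribute [local instance] HasDerivedCategory.standard

namespace Groth.Agent.RigidD

open Groth.Agent.KFlat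

variable {X : Scheme.{u}}

/-- no maps from the `j_! O_U[-n]` kills the `n`-th cohomology -/
theorem isZero_HD_of_maps (B : Set X.Opens) (hB : Conormal.IsBasisFam B) (C : DCoh.D X) (n : ℤ)
    (h : ∀ U ∈ B, ∀ f : gen U (-n) ⟶ C, f = 0) :
    IsZero ((DerivedCategory.homologyFunctor X.Modules n).obj C) := by
  let Q := (DerivedCategory.Q : CochainComplex X.Modules ℤ ⥤ DerivedCategory X.Modules)
  let K := Q.objPreimage C
  refine IsZero.of_iso ?_ ((DerivedCategory.homologyFunctor X.Modules n).mapIso (Q.objObjPreimageIso C).symm ≪≫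
    (DerivedCategory.homologyFunctorFactors X.Modules n).app K)
  suffices hπ : K.homologyπ n = 0 from IsZero.of_epi_eq_zero _ hπ
  refine KosTwist.hom_ext_basis hB fun W hW t => ?_
  have hW' : W = W.ι ''ᵁ ⊤ := W.ι_image_top.symm
  let t' : Γ((Scheme.Modules.restrictFunctor W.ι).obj (K.cycles n), ⊤) := QC.res (K.cycles n) hW'.ge t
  let g := CohQC.secHom t'
  let g' : (CxOX.extZero W.ι).obj (Coh.structureModule (W : Scheme.{u})) ⟶ K.cycles n :=
    ((CxOX.extZeroAdj W.ι).homEquiv _ _).symm g
  have hz : g' ≫ K.homologyπ n = 0 := by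
    let P := (CxOX.extZero W.ι).obj (Coh.structureModule (W : Scheme.{u}))
    let S := (single X.Modules (ComplexShape.up ℤ) n).obj P
    let a : S ⟶ K := mkHomFromSingle (g' ≫ K.iCycles n) fun j _ => by rw [Category.assoc, K.iCycles_d, comp_zero]
    have ha : Q.map a = 0 := by
      let e : gen W (-n) ≅ Q.obj S :=
        (eUD W).mapIso (((DerivedCategory.singleFunctors (W : Scheme.{u}).Modules).shiftIso (-n) n 0
          (by omega)).app (Coh.structureModule (W : Scheme.{u}))) ≪≫
        ((CxOX.extZero W.ι).mapDerivedCategorySingleFunctor n).app _ ≪≫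
        (DerivedCategory.singleFunctorIsoCompQ X.Modules n).app P
      have h0 := h W hW (e.hom ≫ Q.map a ≫ (Q.objObjPreimageIso C).hom)
      rwa [Preadditive.IsIso.comp_left_eq_zero, Preadditive.IsIso.comp_right_eq_zero] at h0
    have hH : homologyMap a n = 0 := by
      have h1 := NatIso.naturality_1 (DerivedCategory.homologyFunctorFactors X.Modules n) a
      rw [Functor.comp_map, ha, Functor.map_zero, zero_comp, comp_zero] at h1
      exact h1.symm
    have hc : (singleObjCyclesSelfIso (ComplexShape.up ℤ) n P).inv ≫ cyclesMap a n = g' := by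
      rw [← cancel_mono (K.iCycles n), Category.assoc, cyclesMap_i, singleObjCyclesSelfIso_inv_iCycles_assoc,
        mkHomFromSingle_f, Iso.inv_hom_id_assoc]
    rw [← hc, Category.assoc, ← homologyπ_naturality, hH, comp_zero, comp_zero]
  have hg : g ≫ (Scheme.Modules.restrictFunctor W.ι).map (K.homologyπ n) = 0 := by
    have h2 := (CxOX.extZeroAdj W.ι).homEquiv_naturality_right g' (K.homologyπ n)
    rw [hz, Equiv.apply_symm_apply, Adjunction.homEquiv_unit, Functor.map_zero, comp_zero] at h2
    exact h2.symm
  have h3 : (K.homologyπ n).app (W.ι ''ᵁ ⊤) t' = 0 := by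
    have h4 := CohQC.secHom_app_one t' ⊤
    rw [QC.res_self] at h4
    have h5 : (g ≫ (Scheme.Modules.restrictFunctor W.ι).map (K.homologyπ n)).app ⊤
        (show Γ(Coh.structureModule (W : Scheme.{u}), ⊤) from (1 : Γ((W : Scheme.{u}), ⊤))) = 0 := by
      rw [hg]
      rfl
    rw [Scheme.Modules.Hom.comp_app] at h5
    exact (congrArg _ h4).symm.trans h5
  have h6 : QC.res (K.homology n) hW'.ge ((K.homologyπ n).app W t) = 0 := by
    rw [QC.app_res]
    exact h3
  have h7 := congrArg (QC.res (K.homology n) hW'.le) h6
  rw [QC.res_res, QC.res_self, map_zero] at h7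
  exact h7

end Groth.Agent.RigidD
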