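import Groth.Agent.RigidD.Twist

/-!
The counit of `- ⊗^L E ⊣ RHom(E, -)` seen on an open.
-/

set_option autoImplicit false
set_option backward.isDefEq.respectTransparency false
set_option backward.isDefEq.respectTransparency.types false
set_option linter.style.haveILetI false
set_option linter.unusedSectionVars false
set_option maxHeartbeats 1000000

universe u

open CategoryTheory Limits AlgebraicGeometry HomologicalComplex

attribute [local instance] HasDerivedCategory.standard

namespace Groth.Agent.RigidD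

open Groth.Agent.DQCoh (RD rdComp rdCongr)
open Groth.Agent.KFlat

/-- generic: counits of compatible adjunctions under a reflective restriction -/
theorem isIso_counit_local {C D : Type*} [Category C] [Category D] {J : C ⥤ D} {R : D ⥤ C} (a : J ⊣ R)
    {F G : D ⥤ D} (c : F ⊣ G) {F' G' : C ⥤ C} (c' : F' ⊣ G') (Φ : J ⋙ F ≅ F' ⋙ J)
    (ha : ∀ X, IsIso (a.unit.app X)) (hres : ∀ {P Q : D} (f : P ⟶ Q), IsIso (R.map f) → IsIso (R.map (F.map f)))
    (M : D) :
    (IsIso (R.map (c.counit.app M)) ↔ IsIso (c'.counit.app (R.obj M))) ∧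
      Nonempty (R.obj (G.obj M) ≅ G'.obj (R.obj M)) := by
  let ad1 : F' ⋙ J ⊣ G ⋙ R := (a.comp c).ofNatIsoLeft Φ
  let ad2 : F' ⋙ J ⊣ R ⋙ G' := c'.comp a
  let τ := (ad1.rightAdjointUniq ad2).app M
  have h : (F' ⋙ J).map τ.hom ≫ ad2.counit.app M = ad1.counit.app M :=
    Adjunction.rightAdjointUniq_hom_app_counit ad1 ad2 M
  have h1 : ad1.counit.app M =
      Φ.inv.app (R.obj (G.obj M)) ≫ F.map (a.counit.app (G.obj M)) ≫ c.counit.app M := by
    simp [ad1, Adjunction.ofNatIsoLeft]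
  have h2 : ad2.counit.app M = J.map (c'.counit.app (R.obj M)) ≫ a.counit.app M := by simp [ad2]
  have key : F'.map τ.hom ≫ c'.counit.app (R.obj M) = a.unit.app (F'.obj (R.obj (G.obj M))) ≫
      R.map (Φ.inv.app (R.obj (G.obj M)) ≫ F.map (a.counit.app (G.obj M)) ≫ c.counit.app M) := by
    refine (a.homEquiv _ _).symm.injective ?_
    rw [a.homEquiv_counit, a.homEquiv_counit, Functor.map_comp, Functor.map_comp, ← h1, ← h, Category.assoc,
      Category.assoc, h2]
    simp
  haveI := ha (F'.obj (R.obj (G.obj M)))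
  haveI : IsIso (R.map (a.counit.app (G.obj M))) := by
    haveI := ha (R.obj (G.obj M))
    exact IsIso.of_isIso_fac_left (a.right_triangle_components (G.obj M))
  haveI := hres (a.counit.app (G.obj M)) inferInstance
  refine ⟨?_, ⟨τ⟩⟩
  let p := a.unit.app (F'.obj (R.obj (G.obj M))) ≫ R.map (Φ.inv.app (R.obj (G.obj M))) ≫
    R.map (F.map (a.counit.app (G.obj M)))
  have key' : F'.map τ.hom ≫ c'.counit.app (R.obj M) = p ≫ R.map (c.counit.app M) := by
    rw [key]; simp [p]
  constructor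
  · intro h
    haveI : IsIso (p ≫ R.map (c.counit.app M)) := inferInstance
    exact IsIso.of_isIso_fac_left key'
  · intro h
    haveI : IsIso (F'.map τ.hom ≫ c'.counit.app (R.obj M)) := inferInstance
    exact IsIso.of_isIso_fac_left key'.symm

variable {X : Scheme.{u}}

/-- isomorphisms are detected on an open cover -/
theorem isIso_of_cover {S T : DCoh.D X} (φ : S ⟶ T)
    (h : ∀ x : X, ∃ U : X.Opens, x ∈ U ∧ IsIso ((DCoh.restrictD U.ι).map φ)) : IsIso φ := by
  let B : Set X.Opens := {V | ∃ U : X.Opens, V ≤ U ∧ IsIso ((DCoh.restrictD U.ι).map φ)}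
  have hB : Conormal.IsBasisFam B := fun W x hx => by
    obtain ⟨U, hxU, hU⟩ := h x
    exact ⟨W ⊓ U, ⟨U, inf_le_right, hU⟩, inf_le_left, hx, hxU⟩
  refine isIso_of_bijective B hB φ ?_
  rintro V ⟨U, hVU, hU⟩ m
  haveI : IsIso ((RD U.ι).map φ) := hU
  haveI : IsIso ((RD (X.homOfLE hVU ≫ U.ι)).map φ) :=
    (NatIso.isIso_map_iff (rdComp (X.homOfLE hVU) U.ι) φ).2
      (inferInstanceAs (IsIso ((RD (X.homOfLE hVU)).map ((RD U.ι).map φ))))
  haveI : IsIso ((RD V.ι).map φ) :=
    (NatIso.isIso_map_iff (rdCongr (X.homOfLE_ι hVU).symm) φ).2 inferInstance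
  have hS := bijective_restrict_map V ((DCoh.inD (V : Scheme.{u}) (Coh.structureModule (V : Scheme.{u})))⟦m⟧) S
  have hT := bijective_restrict_map V ((DCoh.inD (V : Scheme.{u}) (Coh.structureModule (V : Scheme.{u})))⟦m⟧) T
  refine (Function.Bijective.of_comp_iff' hT _).1 ?_
  have hc : (fun g : (DCoh.restrictD V.ι).obj (gen V m) ⟶ (DCoh.restrictD V.ι).obj S =>
      g ≫ (DCoh.restrictD V.ι).map φ).Bijective := by
    haveI : IsIso ((DCoh.restrictD V.ι).map φ) := ‹IsIso ((RD V.ι).map φ)›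
    exact (asIso ((DCoh.restrictD V.ι).map φ)).homToEquiv.bijective
  convert hc.comp hS using 1
  funext g
  exact Functor.map_comp _ _ _

/-- **the counit on an open** -/
theorem counit_local {E : CochainComplex X.Modules ℤ} (hE : DCoh.IsKFlat E) [DCoh.HasLTensorCx E]
    [DCoh.HasRSheafHom E] (U : X.Opens) [DCoh.HasLTensorCx ((DCoh.restrictCx U).obj E)]
    [DCoh.HasRSheafHom ((DCoh.restrictCx U).obj E)] (M : DCoh.D X) :
    (IsIso ((DCoh.restrictD U.ι).map ((DCoh.RSheafHomAdj E).counit.app M)) ↔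
      IsIso ((DCoh.RSheafHomAdj ((DCoh.restrictCx U).obj E)).counit.app ((DCoh.restrictD U.ι).obj M))) ∧
    Nonempty ((DCoh.restrictD U.ι).obj ((DCoh.RSheafHom E).obj M) ≅
      (DCoh.RSheafHom ((DCoh.restrictCx U).obj E)).obj ((DCoh.restrictD U.ι).obj M)) := by
  haveI := DQPush.preservesFiniteLimits_extZero U
  obtain ⟨Φ⟩ := RHomCx.nonempty_extZero_LTensorCx U E
  haveI : DCoh.HasLTensorCx (((Scheme.Modules.pullback U.ι).mapHomologicalComplex (ComplexShape.up ℤ)).obj E) :=
    KFlat.hasLTensorCx _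
  obtain ⟨θ⟩ := nonempty_restrict_LT U.ι hE
  refine isIso_counit_local (adjD U) (DCoh.RSheafHomAdj E) (DCoh.RSheafHomAdj ((DCoh.restrictCx U).obj E)) Φ
    (isIso_adjD_unit U) (fun f hf => ?_) M
  haveI : IsIso ((RD U.ι).map f) := hf
  exact (NatIso.isIso_map_iff θ f).2 (inferInstanceAs (IsIso ((DCoh.LTensorCx _).map ((RD U.ι).map f))))

end Groth.Agent.RigidD
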