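import Groth.Agent.RHomCx.RestrictD
import Groth.Agent.CohQC.QuasiAffine
import Groth.Agent.KosTwist.Main
import Groth.Agent.DQPush.OpenBC
import Groth.Agent.ProjForm.Range
import Mathlib.CategoryTheory.Triangulated.Yoneda

/-!
`j_! O_U` detects isomorphisms in `D(X)`.
-/

set_option autoImplicit false
set_option backward.isDefEq.respectTransparency false
set_option backward.isDefEq.respectTransparency.types false
set_option linter.style.haveILetI false
set_option linter.unusedSectionVars false

universe u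

open CategoryTheory Limits Pretriangulated AlgebraicGeometry HomologicalComplex ZeroObject

attribute [local instance] HasDerivedCategory.standard

namespace Groth.Agent.RigidD

variable {X : Scheme.{u}}

/-- `j_!` is exact on the right as well -/
instance preservesFiniteColimits_extZero (U : X.Opens) : PreservesFiniteColimits (CxOX.extZero U.ι) := by
  haveI : PreservesColimitsOfSize.{0, 0} (CxOX.extZero U.ι) := (CxOX.extZeroAdj U.ι).leftAdjoint_preservesColimits
  infer_instance

instance preservesFiniteLimits_extZero' (U : X.Opens) : PreservesFiniteLimits (CxOX.extZero U.ι) :=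
  DQPush.preservesFiniteLimits_extZero U

/-- `j_!` on derived categories -/
noncomputable abbrev eUD (U : X.Opens) : DCoh.D (U : Scheme.{u}) ⥤ DCoh.D X :=
  (CxOX.extZero U.ι).mapDerivedCategory

/-- the generator `j_! O_U[m]` -/
noncomputable abbrev gen (U : X.Opens) (m : ℤ) : DCoh.D X :=
  (eUD U).obj ((DCoh.inD (U : Scheme.{u}) (Coh.structureModule (U : Scheme.{u})))⟦m⟧)

/-- `j_! ⊣ j^*` -/
noncomputable def adjD (U : X.Opens) : eUD U ⊣ DCoh.restrictD U.ι := RHomCx.derivedAdj' (CxOX.extZeroAdj U.ι)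

lemma isIso_adjD_unit (U : X.Opens) (C : DCoh.D (U : Scheme.{u})) : IsIso ((adjD U).unit.app C) := by
  haveI := ProjForm.isIso_extZero_unit U.ι
  refine (NatTrans.isIso_app_iff_of_iso _
    ((DerivedCategory.Q : CochainComplex (U : Scheme.{u}).Modules ℤ ⥤ _).objObjPreimageIso C)).1 ?_
  haveI : ∀ n, IsIso (((KInj.mapHomologicalComplexAdj (CxOX.extZeroAdj U.ι) (ComplexShape.up ℤ)).unit.app
      ((DerivedCategory.Q : CochainComplex (U : Scheme.{u}).Modules ℤ ⥤ _).objPreimage C)).f n) := fun n => by
    change IsIso ((CxOX.extZeroAdj U.ι).unit.app _)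
    infer_instance
  haveI := HomologicalComplex.Hom.isIso_of_components
    ((KInj.mapHomologicalComplexAdj (CxOX.extZeroAdj U.ι) (ComplexShape.up ℤ)).unit.app
      ((DerivedCategory.Q : CochainComplex (U : Scheme.{u}).Modules ℤ ⥤ _).objPreimage C))
  rw [adjD, RHomCx.derivedAdj', Adjunction.localization_unit_app]
  infer_instance

/-- restriction is bijective on maps out of `j_!` -/
lemma bijective_restrict_map (U : X.Opens) (C : DCoh.D (U : Scheme.{u})) (M : DCoh.D X) :
    Function.Bijective ((DCoh.restrictD U.ι).map : ((eUD U).obj C ⟶ M) → _) := by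
  haveI := isIso_adjD_unit U C
  have h : ⇑((adjD U).homEquiv C M) = (fun g => (adjD U).unit.app C ≫ g) ∘
      (DCoh.restrictD U.ι).map (X := (eUD U).obj C) (Y := M) := funext fun f => (adjD U).homEquiv_unit _ _ f
  have hb : Function.Bijective (fun g : (DCoh.restrictD U.ι).obj ((eUD U).obj C) ⟶ (DCoh.restrictD U.ι).obj M =>
      (adjD U).unit.app C ≫ g) := (asIso ((adjD U).unit.app C)).symm.homFromEquiv.bijective
  exact (Function.Bijective.of_comp_iff' hb _).1 (h ▸ ((adjD U).homEquiv C M).bijective)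

/-- an object without maps from the `j_! O_U[m]` is zero -/
theorem isZero_of_maps (B : Set X.Opens) (hB : Conormal.IsBasisFam B) (C : DCoh.D X)
    (h : ∀ U ∈ B, ∀ (m : ℤ) (f : gen U m ⟶ C), f = 0) : IsZero C := by
  suffices hH : ∀ n, IsZero ((DerivedCategory.homologyFunctor X.Modules n).obj C) by
    haveI : IsIso (0 : C ⟶ (0 : DCoh.D X)) := (DerivedCategory.isIso_iff (C := X.Modules) _).2 fun n =>
      IsZero.isIso (hH n) ((DerivedCategory.homologyFunctor X.Modules n).map_isZero (isZero_zero _)) _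
    exact (isZero_zero _).of_iso (asIso (0 : C ⟶ (0 : DCoh.D X)))
  intro n
  let Q := (DerivedCategory.Q : CochainComplex X.Modules ℤ ⥤ DerivedCategory X.Modules)
  let K := Q.objPreimage C
  refine IsZero.of_iso ?_ ((DerivedCategory.homologyFunctor X.Modules n).mapIso (Q.objObjPreimageIso C).symm ≪≫
    (DerivedCategory.homologyFunctorFactors X.Modules n).app K)
  suffices hπ : K.homologyπ n = 0 from IsZero.of_epi_eq_zero _ hπ
  refine KosTwist.hom_ext_basis hB fun W hW t => ?_
  have hW' : W = W.ι ''ᵁ ⊤ := W.ι_image_top.symm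
  let t' : Γ((Scheme.Modules.restrictFunctor W.ι).obj (K.cycles n), ⊤) := QC.res (K.cycles n) hW'.ge t
  let g := CohQC.secHom t'
  let g' : (CxOX.extZero W.ι).obj (Coh.structureModule (W : Scheme.{u})) ⟶ K.cycles n :=
    ((CxOX.extZeroAdj W.ι).homEquiv _ _).symm g
  have hz : g' ≫ K.homologyπ n = 0 := by
    let P := (CxOX.extZero W.ι).obj (Coh.structureModule (W : Scheme.{u}))
    let S := (single X.Modules (ComplexShape.up ℤ) n).obj P
    let a : S ⟶ K := mkHomFromSingle (g' ≫ K.iCycles n) fun j _ => by rw [Category.assoc, K.iCycles_d, comp_zero]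
    have ha : Q.map a = 0 := by
      let e : gen W (-n) ≅ Q.obj S :=
        (eUD W).mapIso (((DerivedCategory.singleFunctors (W : Scheme.{u}).Modules).shiftIso (-n) n 0
          (by omega)).app (Coh.structureModule (W : Scheme.{u}))) ≪≫
        ((CxOX.extZero W.ι).mapDerivedCategorySingleFunctor n).app _ ≪≫
        (DerivedCategory.singleFunctorIsoCompQ X.Modules n).app P
      have h0 := h W hW (-n) (e.hom ≫ Q.map a ≫ (Q.objObjPreimageIso C).hom)
      rwa [Preadditive.IsIso.comp_left_eq_zero, Preadditive.IsIso.comp_right_eq_zero] at h0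
    have hH : homologyMap a n = 0 := by
      have h1 := NatIso.naturality_1 (DerivedCategory.homologyFunctorFactors X.Modules n) a
      rw [Functor.comp_map, ha, Functor.map_zero, zero_comp, comp_zero] at h1
      exact h1.symm
    have hc : (singleObjCyclesSelfIso (ComplexShape.up ℤ) n P).inv ≫ cyclesMap a n = g' := by
      rw [← cancel_mono (K.iCycles n), Category.assoc, cyclesMap_i, singleObjCyclesSelfIso_inv_iCycles_assoc,
        mkHomFromSingle_f, Iso.inv_hom_id_assoc]
    rw [← hc, Category.assoc, ← homologyπ_naturality, hH, comp_zero, comp_zero]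
  have hg : g ≫ (Scheme.Modules.restrictFunctor W.ι).map (K.homologyπ n) = 0 := by
    have h2 := (CxOX.extZeroAdj W.ι).homEquiv_naturality_right g' (K.homologyπ n)
    rw [hz, Equiv.apply_symm_apply, Adjunction.homEquiv_unit, Functor.map_zero, comp_zero] at h2
    exact h2.symm
  have h3 : (K.homologyπ n).app (W.ι ''ᵁ ⊤) t' = 0 := by
    have h4 := CohQC.secHom_app_one t' ⊤
    rw [QC.res_self] at h4
    have h5 : (g ≫ (Scheme.Modules.restrictFunctor W.ι).map (K.homologyπ n)).app ⊤
        (show Γ(Coh.structureModule (W : Scheme.{u}), ⊤) from (1 : Γ((W : Scheme.{u}), ⊤))) = 0 := by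
      rw [hg]
      rfl
    rw [Scheme.Modules.Hom.comp_app] at h5
    exact (congrArg _ h4).symm.trans h5
  have h6 : QC.res (K.homology n) hW'.ge ((K.homologyπ n).app W t) = 0 := by
    rw [QC.app_res]
    exact h3
  have h7 := congrArg (QC.res (K.homology n) hW'.le) h6
  rw [QC.res_res, QC.res_self, map_zero] at h7
  exact h7

/-- a map bijective on maps from the `j_! O_U[m]` is an isomorphism -/
theorem isIso_of_bijective (B : Set X.Opens) (hB : Conormal.IsBasisFam B) {S T : DCoh.D X} (φ : S ⟶ T)
    (h : ∀ U ∈ B, ∀ m : ℤ, Function.Bijective fun g : gen U m ⟶ S => g ≫ φ) : IsIso φ := by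
  obtain ⟨Z, a, b, hT⟩ := distinguished_cocone_triangle φ
  refine (Triangle.isZero₃_iff_isIso₁ _ hT).1 (isZero_of_maps B hB Z fun U hU m f => ?_)
  have hfb : f ≫ b = 0 := by
    let e : (gen U (m - 1))⟦(1 : ℤ)⟧ ≅ gen U m :=
      (((eUD U).commShiftIso (1 : ℤ)).app _).symm ≪≫
        (eUD U).mapIso ((shiftFunctorAdd' _ (m - 1) 1 m (by omega)).app _).symm
    obtain ⟨g, hg⟩ := (shiftFunctor (DCoh.D X) (1 : ℤ)).map_surjective (e.hom ≫ f ≫ b)
    have hg0 : g ≫ φ = 0 := (shiftFunctor (DCoh.D X) (1 : ℤ)).map_injective (by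
      rw [Functor.map_comp, hg, Functor.map_zero, Category.assoc, Category.assoc,
        show b ≫ φ⟦(1 : ℤ)⟧' = 0 from comp_distTriang_mor_zero₃₁ _ hT, comp_zero, comp_zero])
    obtain rfl : g = 0 := (h U hU (m - 1)).1 (show g ≫ φ = (fun g => g ≫ φ) 0 by rw [hg0]; exact zero_comp.symm)
    rw [Functor.map_zero] at hg
    exact (Preadditive.IsIso.comp_left_eq_zero e.hom (f ≫ b)).1 hg.symm
  obtain ⟨g, rfl⟩ := Triangle.coyoneda_exact₃ _ hT f hfb
  obtain ⟨g', rfl⟩ := (h U hU m).2 g
  show (g' ≫ φ) ≫ a = 0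
  rw [Category.assoc, show φ ≫ a = 0 from comp_distTriang_mor_zero₁₂ _ hT, comp_zero]

end Groth.Agent.RigidD
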