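import Groth.Agent.RigidD.Main

/-!
`O[n] ≅ RHom(E, E ⊗ O[n])` for locally rigid `E`, and locality of isomorphisms.
-/

set_option autoImplicit false
set_option backward.isDefEq.respectTransparency false
set_option backward.isDefEq.respectTransparency.types false
set_option linter.style.haveILetI false
set_option linter.unusedSectionVars false
set_option maxHeartbeats 1000000

universe u

open CategoryTheory Limits AlgebraicGeometry HomologicalComplex

attribute [local instance] HasDerivedCategory.standard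

namespace Groth.Agent.RigidD

open Groth.Agent.DQCoh (RD rdComp rdCongr)
open Groth.Agent.KFlat

variable {X : Scheme.{u}} {A : Type u} [CommRing A]

local notation "SA" => Spec (CommRingCat.of A)
local notation "OA" => DCoh.inD (Spec (CommRingCat.of A)) (Coh.structureModule (Spec (CommRingCat.of A)))

/-- on an affine scheme `- ⊗^L M~` is bijective on maps between any two shifts of `O` for rigid `M` -/
theorem bijective_ltensor_spec' {K : CochainComplex (Spec (CommRingCat.of A)).Modules ℤ} (hK : DCoh.IsKFlat K)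
    [DCoh.HasLTensorCx K] (M : Dual.D A)
    (e : DCoh.toD (Spec (CommRingCat.of A)) K ≅ (DCoh.tildeD (CommRingCat.of A)).obj M)
    (h0 : Function.Bijective fun a : A => a • 𝟙 M) (h1 : ∀ i : ℤ, i ≠ 0 → Subsingleton (M ⟶ M⟦i⟧)) (m n : ℤ) :
    Function.Bijective ((DCoh.LTensorCx K).map : (OA⟦m⟧ ⟶ OA⟦n⟧) → _) := by
  haveI : PreservesFiniteLimits (tilde.functor (CommRingCat.of A)) := QC.tilde_preservesFiniteLimits
  obtain ⟨hfull, hfaith, -⟩ := DQCoh.tildeD_affine (R := CommRingCat.of A)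
  haveI := hfull
  haveI := hfaith
  let T : Dual.D A ⥤ DCoh.D SA := DCoh.tildeD (CommRingCat.of A)
  haveI : T.Linear A := inferInstanceAs ((tilde.functor (CommRingCat.of A)).mapDerivedCategory.Linear A)
  let eO : T.obj (Dual.inD A A) ≅ OA :=
    ((tilde.functor (CommRingCat.of A)).mapDerivedCategorySingleFunctor 0).app (ModuleCat.of A A) ≪≫
      (DerivedCategory.singleFunctor _ 0).mapIso (tildeSelf (R := CommRingCat.of A))
  have eS : ∀ k : ℤ, Nonempty ((DCoh.LTensorCx K).obj (OA⟦k⟧) ≅ (T.obj M)⟦k⟧) := fun k => by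
    obtain ⟨et⟩ := nonempty_ltensor_unit_shift hK k
    exact ⟨et ≪≫ (shiftFunctor _ k).mapIso e⟩
  by_cases hm : m = n
  · subst hm
    obtain ⟨et⟩ := eS m
    have hs := bijective_smul_of_iso ((shiftFunctor _ m).mapIso eO)
      (bijective_smul_map (shiftFunctor (DCoh.D SA) m) (bijective_smul_map T (bijective_smul_unit A)))
    have ht := bijective_smul_of_iso et.symm
      (bijective_smul_map (shiftFunctor (DCoh.D SA) m) (bijective_smul_map T h0))
    refine (Function.Bijective.of_comp_iff _ hs).1 ?_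
    convert ht using 1
    funext a
    exact DCohShriek.ltensor_map_smul_id hK _ a
  · have hTc : ∀ {Z : Dual.D A}, Subsingleton (Z ⟶ Z⟦n - m⟧) → Subsingleton ((T.obj Z)⟦m⟧ ⟶ (T.obj Z)⟦n⟧) :=
      fun {Z} h => by
      haveI : Subsingleton (Z ⟶ Z⟦n - m⟧) := h
      haveI : Subsingleton (Z⟦m⟧ ⟶ (Z⟦n - m⟧)⟦m⟧) :=
        (Functor.FullyFaithful.ofFullyFaithful (shiftFunctor (Dual.D A) m)).homEquiv.symm.subsingleton
      haveI : Subsingleton (Z⟦m⟧ ⟶ Z⟦n⟧) :=
        @Equiv.subsingleton _ _ ((Iso.refl _).homCongr ((shiftFunctorAdd' (Dual.D A) (n - m) m n (by omega)).app Z))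
          (by assumption)
      haveI : Subsingleton (T.obj (Z⟦m⟧) ⟶ T.obj (Z⟦n⟧)) :=
        (Functor.FullyFaithful.ofFullyFaithful T).homEquiv.symm.subsingleton
      exact @Equiv.subsingleton _ _ (((T.commShiftIso m).app Z).symm.homCongr ((T.commShiftIso n).app Z).symm)
        (by assumption)
    haveI : Subsingleton (OA⟦m⟧ ⟶ OA⟦n⟧) := by
      haveI := hTc (subsingleton_unit_shift A (i := n - m) (by omega))
      exact (((shiftFunctor _ m).mapIso eO).homCongr ((shiftFunctor _ n).mapIso eO)).symm.subsingleton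
    haveI : Subsingleton ((DCoh.LTensorCx K).obj (OA⟦m⟧) ⟶ (DCoh.LTensorCx K).obj (OA⟦n⟧)) := by
      haveI := hTc (h1 (n - m) (by omega))
      obtain ⟨e₁⟩ := eS m
      obtain ⟨e₂⟩ := eS n
      exact (e₁.homCongr e₂).subsingleton
    exact ⟨fun _ _ _ => Subsingleton.elim _ _, fun _ => ⟨0, Subsingleton.elim _ _⟩⟩

variable (w : Spec (CommRingCat.of A) ⟶ X) [IsOpenImmersion w]

/-- the key bijection, into a shift of `O` -/
theorem bijective_ltensor_gen' {E : CochainComplex X.Modules ℤ} (hE : DCoh.IsKFlat E) [DCoh.HasLTensorCx E]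
    (M : Dual.D A) (eM : (RD w).obj (DCoh.toD X E) ≅ (DCoh.tildeD (CommRingCat.of A)).obj M)
    (h0 : Function.Bijective fun a : A => a • 𝟙 M) (h1 : ∀ i : ℤ, i ≠ 0 → Subsingleton (M ⟶ M⟦i⟧)) (m n : ℤ) :
    Function.Bijective ((DCoh.LTensorCx E).map :
      (gen w.opensRange m ⟶ (DCoh.inD X (Coh.structureModule X))⟦n⟧) → _) := by
  let U := w.opensRange
  haveI : DCoh.HasLTensorCx ((DCoh.restrictCx U).obj E) := KFlat.hasLTensorCx _
  let P := (Scheme.Modules.pullback w).mapHomologicalComplex (ComplexShape.up ℤ)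
  haveI : DCoh.HasLTensorCx (P.obj E) := KFlat.hasLTensorCx _
  obtain ⟨θ⟩ := nonempty_restrict_LT w hE
  obtain ⟨Φ⟩ := RHomCx.nonempty_extZero_LTensorCx U E
  obtain ⟨eg⟩ := nonempty_RD_gen w m
  obtain ⟨eO⟩ := DualSch.nonempty_restrict_unit w
  let eP : DCoh.toD (Spec (CommRingCat.of A)) (P.obj E) ≅ (DCoh.tildeD (CommRingCat.of A)).obj M :=
    DerivedCategory.Q.mapIso ((NatIso.mapHomologicalComplex (Scheme.Modules.restrictFunctorIsoPullback w)
      (ComplexShape.up ℤ)).app E).symm ≪≫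
    ((Scheme.Modules.restrictFunctor w).mapDerivedCategoryFactors.app E).symm ≪≫ eM
  let eOn := ((RD w).commShiftIso n).app (DCoh.inD X (Coh.structureModule X)) ≪≫ (shiftFunctor _ n).mapIso eO
  have h3 := bijective_map_of_iso (DCoh.LTensorCx (P.obj E)) eg.symm eOn.symm
    (bijective_ltensor_spec' (isKFlat_pullback w hE) M eP h0 h1 m n)
  have h4 : Function.Bijective ((RD w).map : ((DCoh.LTensorCx E).obj (gen U m) ⟶
      (DCoh.LTensorCx E).obj ((DCoh.inD X (Coh.structureModule X))⟦n⟧)) → _) :=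
    bijective_map_of_iso (RD w) (Φ.app _).symm (Iso.refl _) (bijective_RD_map w _ _)
  have h5 : Function.Bijective ((DCoh.LTensorCx E ⋙ RD w).map :
      (gen U m ⟶ (DCoh.inD X (Coh.structureModule X))⟦n⟧) → _) :=
    bijective_map_natIso θ.symm (h3.comp (bijective_RD_map w _ _))
  exact (Function.Bijective.of_comp_iff' h4 _).1 h5

/-- **`O[n] ⟶ RHom(E, O[n] ⊗ E)` is an isomorphism for locally rigid `E`** -/
theorem isIso_unit_shift {E : CochainComplex X.Modules ℤ} (hE : DCoh.IsKFlat E) [DCoh.HasLTensorCx E]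
    [DCoh.HasRSheafHom E]
    (h : ∀ (x : X) (W : X.Opens), x ∈ W → RigidNear (DCoh.toD X E) x W) (n : ℤ) :
    IsIso ((DCoh.RSheafHomAdj E).unit.app ((DCoh.inD X (Coh.structureModule X))⟦n⟧)) := by
  let B : Set X.Opens := {V | ∃ (A : Type u) (_ : CommRing A) (w : Spec (CommRingCat.of A) ⟶ X)
    (_ : IsOpenImmersion w) (M : Dual.D A), V = w.opensRange ∧
      Nonempty ((RD w).obj (DCoh.toD X E) ≅ (DCoh.tildeD (CommRingCat.of A)).obj M) ∧
      Function.Bijective (fun a : A => a • 𝟙 M) ∧ ∀ i : ℤ, i ≠ 0 → Subsingleton (M ⟶ M⟦i⟧)}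
  have hB : Conormal.IsBasisFam B := fun W x hx => by
    obtain ⟨A, _, w, _, M, hxw, hW, r⟩ := h x W hx
    exact ⟨w.opensRange, ⟨A, _, w, ‹_›, M, rfl, r⟩, hW, hxw⟩
  refine isIso_of_bijective B hB _ ?_
  rintro U ⟨A, _, w, _, M, rfl, ⟨eM⟩, h0, h1⟩ m
  have hb := bijective_ltensor_gen' w hE M eM h0 h1 m n
  let On := (DCoh.inD X (Coh.structureModule X))⟦n⟧
  have : (fun g : gen w.opensRange m ⟶ On => g ≫ (DCoh.RSheafHomAdj E).unit.app On) =
      (DCoh.RSheafHomAdj E).homEquiv _ _ ∘ (DCoh.LTensorCx E).map := funext fun g => by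
    rw [Function.comp_apply, Adjunction.homEquiv_unit]
    exact ((DCoh.RSheafHomAdj E).unit.naturality g)
  exact this ▸ ((DCoh.RSheafHomAdj E).homEquiv _ _).bijective.comp hb

/-- the counit is an isomorphism at shifts of `E` -/
theorem isIso_counit_shift {E : CochainComplex X.Modules ℤ} (hE : DCoh.IsKFlat E) [DCoh.HasLTensorCx E]
    [DCoh.HasRSheafHom E]
    (h : ∀ (x : X) (W : X.Opens), x ∈ W → RigidNear (DCoh.toD X E) x W) (n : ℤ) {N : DCoh.D X}
    (e : N ≅ (DCoh.toD X E)⟦n⟧) :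
    IsIso ((DCoh.RSheafHomAdj E).counit.app N) ∧
      Nonempty ((DCoh.RSheafHom E).obj N ≅ (DCoh.inD X (Coh.structureModule X))⟦n⟧) := by
  obtain ⟨et⟩ := nonempty_ltensor_unit_shift hE n
  let On := (DCoh.inD X (Coh.structureModule X))⟦n⟧
  haveI := isIso_unit_shift hE h n
  haveI : IsIso ((DCoh.RSheafHomAdj E).counit.app ((DCoh.LTensorCx E).obj On)) := by
    have t := (DCoh.RSheafHomAdj E).left_triangle_components On
    exact IsIso.of_isIso_fac_left t
  refine ⟨(NatTrans.isIso_app_iff_of_iso _ (e ≪≫ et.symm)).2 inferInstance, ⟨?_⟩⟩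
  exact (DCoh.RSheafHom E).mapIso (e ≪≫ et.symm) ≪≫ (asIso ((DCoh.RSheafHomAdj E).unit.app On)).symm

end Groth.Agent.RigidD
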